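import Mathlib.CategoryTheory.Triangulated.TStructure.Heart
import Mathlib.CategoryTheory.Triangulated.TStructure.AbelianSubcategory
import Mathlib.CategoryTheory.Triangulated.TStructure.TruncLEGT

/-!
# The heart of a t-structure is abelian
-/

set_option autoImplicit false

universe v' u' v u

open CategoryTheory Limits Category Pretriangulated Triangulated ZeroObject

namespace GrothLib.THeart

variable {C : Type u} [Category.{v} C] [Preadditive C] [HasZeroObject C] [HasShift C ℤ]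
  [∀ n : ℤ, (shiftFunctor C n).Additive] [Pretriangulated C] [IsTriangulated C] (t : TStructure C)
  {H : Type u'} [Category.{v'} H] [Preadditive H] [t.Heart H]

theorem hι ⦃X Y : H⦄ ⦃n : ℤ⦄ (f : t.ιHeart.obj X ⟶ (t.ιHeart.obj Y)⟦n⟧) (hn : n < 0) : f = 0 := by
  haveI := t.isGE_shift (t.ιHeart.obj Y) 0 n (-n)
  exact t.zero f 0 (-n)

theorem exists_obj (X : C) [t.IsLE X 0] [t.IsGE X 0] : ∃ (A : H), Nonempty (t.ιHeart.obj A ≅ X) := by
  have h : t.heart X := (t.mem_heart_iff X).2 ⟨inferInstance, inferInstance⟩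
  rw [← t.essImage_ιHeart H] at h
  exact ⟨_, ⟨h.getIso⟩⟩

theorem admissible : AbelianSubcategory.admissibleMorphism (A := H) (t.ιHeart (H := H)) = ⊤ := by
  refine eq_top_iff.2 fun X₁ X₂ f₁ _ X₃ f₂ f₃ hT => ?_
  haveI : t.IsLE ((t.ιHeart.obj X₁)⟦(1 : ℤ)⟧) (-1) := t.isLE_shift _ 0 1 (-1)
  haveI : t.IsGE ((t.ιHeart.obj X₁)⟦(1 : ℤ)⟧) (-1) := t.isGE_shift _ 0 1 (-1)
  haveI h3 : t.IsLE X₃ 0 := t.isLE₂ _ (rot_of_distTriang _ hT) 0 (inferInstance : t.IsLE (t.ιHeart.obj X₂) 0)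
    (t.isLE_of_le ((t.ιHeart.obj X₁)⟦(1 : ℤ)⟧) (-1) 0)
  haveI h3' : t.IsGE X₃ (-1) := t.isGE₂ _ (rot_of_distTriang _ hT) (-1) (t.isGE_of_ge (t.ιHeart.obj X₂) (-1) 0)
    (inferInstance : t.IsGE ((t.ιHeart.obj X₁)⟦(1 : ℤ)⟧) (-1))
  let A := (t.truncLE (-1)).obj X₃
  haveI : t.IsLE (A⟦(-1 : ℤ)⟧) 0 := t.isLE_shift A (-1) (-1) 0
  haveI : t.IsGE (A⟦(-1 : ℤ)⟧) 0 := t.isGE_shift A (-1) (-1) 0
  obtain ⟨K, ⟨eK⟩⟩ := exists_obj t (H := H) (A⟦(-1 : ℤ)⟧)
  haveI : t.IsGE ((t.truncGE 0).obj X₃) 0 := inferInstance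
  obtain ⟨Q, ⟨eQ⟩⟩ := exists_obj t (H := H) ((t.truncGE 0).obj X₃)
  let e : (t.ιHeart.obj K)⟦(1 : ℤ)⟧ ≅ A :=
    (shiftFunctor C (1 : ℤ)).mapIso eK ≪≫ (shiftEquiv C (1 : ℤ)).counitIso.app A
  refine ⟨K, Q, e.hom ≫ (t.truncLEι (-1)).app X₃, (t.truncGEπ 0).app X₃ ≫ eQ.inv,
    eQ.hom ≫ (t.truncGEδLE (-1) 0 (by lia)).app X₃ ≫ e.inv⟦(1 : ℤ)⟧', ?_⟩
  refine isomorphic_distinguished _ (t.triangleLEGE_distinguished (-1) 0 (by lia) X₃) _
    (Triangle.isoMk _ _ e (Iso.refl _) eQ ?_ ?_ ?_)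
  · exact comp_id _
  · change ((t.truncGEπ 0).app X₃ ≫ eQ.inv) ≫ eQ.hom = 𝟙 _ ≫ _
    simp [TStructure.triangleLEGE]
    rfl
  · change (eQ.hom ≫ _ ≫ e.inv⟦(1 : ℤ)⟧') ≫ e.hom⟦(1 : ℤ)⟧' = eQ.hom ≫ _
    simp [← Functor.map_comp, TStructure.triangleLEGE]
    rfl

theorem exists_triangle_of_epi {Y Z : H} (v : Y ⟶ Z) [Epi v] :
    ∃ (X : H) (i : X ⟶ Y) (w : t.ιHeart.obj Z ⟶ (t.ιHeart.obj X)⟦(1 : ℤ)⟧),
      Triangle.mk (t.ιHeart.map i) (t.ιHeart.map v) w ∈ distTriang C :=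
  AbelianSubcategory.exists_distinguished_triangle_of_epi (hι t) (admissible t) v

include t in
theorem hasFiniteProducts : HasFiniteProducts H := by
  haveI : HasZeroObject H := by
    obtain ⟨Z, ⟨e⟩⟩ := exists_obj t (H := H) (0 : C)
    exact ⟨⟨Z, (IsZero.iff_id_eq_zero Z).2 (t.ιHeart.map_injective (((isZero_zero C).of_iso e).eq_of_src _ _))⟩⟩
  haveI : HasBinaryBiproducts H := ⟨fun X Y => by
    haveI : t.IsLE (t.ιHeart.obj X ⊞ t.ιHeart.obj Y) 0 :=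
      t.isLE₂ _ (binaryBiproductTriangle_distinguished (t.ιHeart.obj X) (t.ιHeart.obj Y)) 0
        (inferInstance : t.IsLE (t.ιHeart.obj X) 0) (inferInstance : t.IsLE (t.ιHeart.obj Y) 0)
    haveI : t.IsGE (t.ιHeart.obj X ⊞ t.ιHeart.obj Y) 0 :=
      t.isGE₂ _ (binaryBiproductTriangle_distinguished (t.ιHeart.obj X) (t.ιHeart.obj Y)) 0
        (inferInstance : t.IsGE (t.ιHeart.obj X) 0) (inferInstance : t.IsGE (t.ιHeart.obj Y) 0)
    obtain ⟨P, ⟨e⟩⟩ := exists_obj t (H := H) (t.ιHeart.obj X ⊞ t.ιHeart.obj Y)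
    let b : BinaryBicone X Y :=
      { pt := P
        fst := t.ιHeart.preimage (e.hom ≫ biprod.fst)
        snd := t.ιHeart.preimage (e.hom ≫ biprod.snd)
        inl := t.ιHeart.preimage (biprod.inl ≫ e.inv)
        inr := t.ιHeart.preimage (biprod.inr ≫ e.inv)
        inl_fst := t.ιHeart.map_injective (by simp)
        inl_snd := t.ιHeart.map_injective (by simp)
        inr_fst := t.ιHeart.map_injective (by simp)
        inr_snd := t.ιHeart.map_injective (by simp) }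
    refine HasBinaryBiproduct.mk ⟨b, isBinaryBilimitOfTotal b (t.ιHeart.map_injective ?_)⟩
    simp only [b, Functor.map_add, Functor.map_comp, Functor.map_preimage, Functor.map_id, assoc]
    rw [← Preadditive.comp_add, ← assoc biprod.fst, ← assoc biprod.snd, ← Preadditive.add_comp, biprod.total, id_comp,
      e.hom_inv_id]
    exact (t.ιHeart.map_id _).symm⟩
  exact hasFiniteProducts_of_has_binary_and_terminal

/-- The abelian structure. -/
@[instance_reducible]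
noncomputable def abelian : Abelian H :=
  haveI := hasFiniteProducts t (H := H)
  AbelianSubcategory.abelian t.ιHeart (hι t) (admissible t)

end GrothLib.THeart
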