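import Groth.Agent.Lib.THeart.Basic
import Mathlib.CategoryTheory.Triangulated.HomologicalFunctor
import Mathlib.Algebra.Homology.ShortComplex.ShortExact

/-!
# The zeroth cohomology functor of a t-structure is homological
-/

set_option autoImplicit false

universe v' u' v u

open CategoryTheory Limits Category Pretriangulated Triangulated

namespace GrothLib.THeart

variable {C : Type u} [Category.{v} C] [Preadditive C] [HasZeroObject C] [HasShift C ℤ]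
  [∀ n : ℤ, (shiftFunctor C n).Additive] [Pretriangulated C] [IsTriangulated C] (t : TStructure C)
  {H : Type u'} [Category.{v'} H] [Abelian H] [t.Heart H] (H0 : C ⥤ H)
  (e : H0 ⋙ t.ιHeart ≅ t.truncGE 0 ⋙ t.truncLE 0)

/-- natural map `H⁰ X → τ≥0 X` -/
noncomputable def α : H0 ⋙ t.ιHeart ⟶ t.truncGE 0 :=
  e.hom ≫ Functor.whiskerLeft (t.truncGE 0) (t.truncLEι 0) ≫ (Functor.rightUnitor _).hom

/-- natural map `τ≤0 X → H⁰ X` -/
noncomputable def γ : t.truncLE 0 ⟶ H0 ⋙ t.ιHeart :=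
  (Functor.rightUnitor _).inv ≫ Functor.whiskerLeft (t.truncLE 0) (t.truncGEπ 0) ≫
    (t.truncGELEIsoLEGE 0 0).hom ≫ e.inv

theorem α_app (X : C) : (α t H0 e).app X = e.hom.app X ≫ (t.truncLEι 0).app _ := by simp [α]

theorem γ_app (X : C) : (γ t H0 e).app X =
    (t.truncGEπ 0).app ((t.truncLE 0).obj X) ≫ (t.truncGELEIsoLEGE 0 0).hom.app X ≫ e.inv.app X := by
  simp [γ]

include e

theorem additive : H0.Additive := by
  haveI : (H0 ⋙ t.ιHeart).Additive := Functor.additive_of_iso e.symm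
  exact Functor.additive_of_comp_faithful H0 t.ιHeart

theorem α_bijective (W : H) (X : C) :
    Function.Bijective (fun a : W ⟶ H0.obj X => t.ιHeart.map a ≫ (α t H0 e).app X) := by
  refine ⟨fun a b h => t.ιHeart.map_injective ?_, fun g => ?_⟩
  · simp only [α_app, ← assoc] at h
    exact (cancel_mono (e.hom.app X)).1 (t.to_truncLE_obj_ext h)
  · refine ⟨t.ιHeart.preimage (t.liftTruncLE g 0 ≫ e.inv.app X), ?_⟩
    simp [α_app]

theorem γ_bijective (W : H) (X : C) :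
    Function.Bijective (fun a : H0.obj X ⟶ W => (γ t H0 e).app X ≫ t.ιHeart.map a) := by
  refine ⟨fun a b h => t.ιHeart.map_injective ?_, fun g => ?_⟩
  · simp only [γ_app, assoc] at h
    have := t.from_truncGE_obj_ext h
    exact (cancel_epi (e.inv.app X)).1 ((cancel_epi ((t.truncGELEIsoLEGE 0 0).hom.app X)).1 this)
  · refine ⟨t.ιHeart.preimage (e.hom.app X ≫ (t.truncGELEIsoLEGE 0 0).inv.app X ≫ t.descTruncGE g 0), ?_⟩
    simp [γ_app]

theorem isIso_of_truncGE {X Y : C} (f : X ⟶ Y) [IsIso ((t.truncGE 0).map f)] : IsIso (H0.map f) := by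
  haveI : IsIso (t.ιHeart.map (H0.map f)) := (NatIso.isIso_map_iff e f).2 (Functor.map_isIso (t.truncLE 0) _)
  exact isIso_of_reflects_iso (H0.map f) t.ιHeart

theorem isIso_of_truncLE {X Y : C} (f : X ⟶ Y) [IsIso ((t.truncLE 0).map f)] : IsIso (H0.map f) := by
  haveI : IsIso ((t.truncGELE 0 0).map f) := Functor.map_isIso (t.truncGE 0) _
  haveI : IsIso ((t.truncLEGE 0 0).map f) := (NatIso.isIso_map_iff (t.truncGELEIsoLEGE 0 0) f).1 inferInstance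
  haveI : IsIso (t.ιHeart.map (H0.map f)) := (NatIso.isIso_map_iff e f).2 inferInstance
  exact isIso_of_reflects_iso (H0.map f) t.ιHeart

theorem of_ge [H0.Additive] (T : Triangle C) (hT : T ∈ distTriang C) [t.IsGE T.obj₁ 0] [t.IsGE T.obj₂ 0] [t.IsGE T.obj₃ 0] :
    Mono (H0.map T.mor₁) ∧
      (ShortComplex.mk (H0.map T.mor₁) (H0.map T.mor₂)
        (by rw [← H0.map_comp, comp_distTriang_mor_zero₁₂ _ hT, H0.map_zero])).Exact := by
  let β : ∀ (W : H) (X : C) [t.IsGE X 0], (W ⟶ H0.obj X) → (t.ιHeart.obj W ⟶ X) :=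
    fun W X _ a => t.ιHeart.map a ≫ (α t H0 e).app X ≫ inv ((t.truncGEπ 0).app X)
  have hnat : ∀ (W : H) (X Y : C) [t.IsGE X 0] [t.IsGE Y 0] (f : X ⟶ Y) (a : W ⟶ H0.obj X),
      β W Y (a ≫ H0.map f) = β W X a ≫ f := by
    intro W X Y _ _ f a
    have h1 : t.ιHeart.map (H0.map f) ≫ (α t H0 e).app Y = (α t H0 e).app X ≫ (t.truncGE 0).map f :=
      (α t H0 e).naturality f
    have h2 : inv ((t.truncGEπ 0).app X) ≫ f = (t.truncGE 0).map f ≫ inv ((t.truncGEπ 0).app Y) := by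
      rw [IsIso.inv_comp_eq, ← assoc, IsIso.eq_comp_inv]
      exact (t.truncGEπ 0).naturality f
    simp only [β, Functor.map_comp, assoc, h2]
    rw [reassoc_of% h1]
  have hbij : ∀ (W : H) (X : C) [t.IsGE X 0], Function.Bijective (β W X) := by
    intro W X _
    obtain ⟨h1, h2⟩ := α_bijective t H0 e W X
    refine ⟨fun a b h => h1 ?_, fun g => ?_⟩
    · exact (cancel_mono (inv ((t.truncGEπ 0).app X))).1 (by simpa [β] using h)
    · obtain ⟨a, ha⟩ := h2 (g ≫ (t.truncGEπ 0).app X)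
      exact ⟨a, by simp only [β, ← assoc] at ha ⊢; rw [ha]; simp⟩
  have hzero : ∀ (W : H) (X : C) [t.IsGE X 0], β W X 0 = 0 := fun W X _ => by simp [β]
  haveI hmono : Mono (H0.map T.mor₁) := by
    refine Preadditive.mono_of_cancel_zero _ fun {W} a ha => (hbij W T.obj₁).1 ?_
    have h : β W T.obj₁ a ≫ T.mor₁ = 0 := by rw [← hnat, ha, hzero]
    obtain ⟨l, hl⟩ := Triangle.coyoneda_exact₂ _ (inv_rot_of_distTriang _ hT) (β W T.obj₁ a) h
    haveI : t.IsGE (T.obj₃⟦(-1 : ℤ)⟧) 1 := t.isGE_shift T.obj₃ 0 (-1) 1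
    have hl0 : l = 0 := t.zero_of_isLE_of_isGE l 0 1 (by omega) inferInstance this
    rw [hzero, hl, hl0]
    exact zero_comp
  refine ⟨hmono, ?_⟩
  let S := ShortComplex.mk (H0.map T.mor₁) (H0.map T.mor₂)
    (by rw [← H0.map_comp, comp_distTriang_mor_zero₁₂ _ hT, H0.map_zero])
  have hlift : ∀ {W : H} (a : W ⟶ S.X₂) (_ : a ≫ S.g = 0), ∃ b : W ⟶ S.X₁, b ≫ S.f = a := by
    intro W a ha
    have h : β W T.obj₂ a ≫ T.mor₂ = 0 := by rw [← hnat]; exact (congrArg _ ha).trans (hzero _ _)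
    obtain ⟨l, hl⟩ := Triangle.coyoneda_exact₂ _ hT (β W T.obj₂ a) h
    obtain ⟨b, rfl⟩ := (hbij W T.obj₁).2 l
    exact ⟨b, (hbij W T.obj₂).1 ((hnat _ _ _ _ _).trans hl.symm)⟩
  haveI : Mono S.f := hmono
  exact ShortComplex.exact_of_f_is_kernel _ (KernelFork.IsLimit.ofι' S.f S.zero
    fun a ha => ⟨(hlift a ha).choose, (hlift a ha).choose_spec⟩)

theorem of_le [H0.Additive] (T : Triangle C) (hT : T ∈ distTriang C) [t.IsLE T.obj₁ 0] [t.IsLE T.obj₂ 0] [t.IsLE T.obj₃ 0] :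
    Epi (H0.map T.mor₂) ∧
      (ShortComplex.mk (H0.map T.mor₁) (H0.map T.mor₂)
        (by rw [← H0.map_comp, comp_distTriang_mor_zero₁₂ _ hT, H0.map_zero])).Exact := by
  let β : ∀ (W : H) (X : C) [t.IsLE X 0], (H0.obj X ⟶ W) → (X ⟶ t.ιHeart.obj W) :=
    fun W X _ a => inv ((t.truncLEι 0).app X) ≫ (γ t H0 e).app X ≫ t.ιHeart.map a
  have hnat : ∀ (W : H) (X Y : C) [t.IsLE X 0] [t.IsLE Y 0] (f : X ⟶ Y) (a : H0.obj Y ⟶ W),
      β W X (H0.map f ≫ a) = f ≫ β W Y a := by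
    intro W X Y _ _ f a
    have h1 : (t.truncLE 0).map f ≫ (γ t H0 e).app Y = (γ t H0 e).app X ≫ t.ιHeart.map (H0.map f) :=
      (γ t H0 e).naturality f
    have h2 : f ≫ inv ((t.truncLEι 0).app Y) = inv ((t.truncLEι 0).app X) ≫ (t.truncLE 0).map f := by
      rw [IsIso.eq_inv_comp, ← assoc, IsIso.comp_inv_eq]
      exact ((t.truncLEι 0).naturality f).symm
    simp only [β, Functor.map_comp]
    rw [reassoc_of% h2, reassoc_of% h1]
  have hbij : ∀ (W : H) (X : C) [t.IsLE X 0], Function.Bijective (β W X) := by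
    intro W X _
    obtain ⟨h1, h2⟩ := γ_bijective t H0 e W X
    refine ⟨fun a b h => h1 ?_, fun g => ?_⟩
    · exact (cancel_epi (inv ((t.truncLEι 0).app X))).1 h
    · obtain ⟨a, ha⟩ := h2 ((t.truncLEι 0).app X ≫ g)
      exact ⟨a, by simp only [β] at ha ⊢; rw [ha]; simp⟩
  have hzero : ∀ (W : H) (X : C) [t.IsLE X 0], β W X 0 = 0 := fun W X _ => by simp [β]
  haveI hepi : Epi (H0.map T.mor₂) := by
    refine Preadditive.epi_of_cancel_zero _ fun {W} a ha => (hbij W T.obj₃).1 ?_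
    have h : T.mor₂ ≫ β W T.obj₃ a = 0 := by rw [← hnat, ha, hzero]
    obtain ⟨l, hl⟩ := Triangle.yoneda_exact₃ _ hT (β W T.obj₃ a) h
    haveI : t.IsLE (T.obj₁⟦(1 : ℤ)⟧) (-1) := t.isLE_shift T.obj₁ 0 1 (-1)
    have hl0 : l = 0 := t.zero_of_isLE_of_isGE l (-1) 0 (by omega) this inferInstance
    rw [hzero, hl, hl0]
    exact comp_zero
  refine ⟨hepi, ?_⟩
  let S := ShortComplex.mk (H0.map T.mor₁) (H0.map T.mor₂)
    (by rw [← H0.map_comp, comp_distTriang_mor_zero₁₂ _ hT, H0.map_zero])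
  have hdesc : ∀ {W : H} (a : S.X₂ ⟶ W) (_ : S.f ≫ a = 0), ∃ b : S.X₃ ⟶ W, S.g ≫ b = a := by
    intro W a ha
    have h : T.mor₁ ≫ β W T.obj₂ a = 0 := by rw [← hnat]; exact (congrArg _ ha).trans (hzero _ _)
    obtain ⟨l, hl⟩ := Triangle.yoneda_exact₂ _ hT (β W T.obj₂ a) h
    obtain ⟨b, rfl⟩ := (hbij W T.obj₃).2 l
    exact ⟨b, (hbij W T.obj₂).1 ((hnat _ _ _ _ _).trans hl.symm)⟩
  haveI : Epi S.g := hepi
  exact ShortComplex.exact_of_g_is_cokernel _ (CokernelCofork.IsColimit.ofπ' S.g S.zero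
    fun a ha => ⟨(hdesc a ha).choose, (hdesc a ha).choose_spec⟩)

theorem of_ge₃ [H0.Additive] (T : Triangle C) (hT : T ∈ distTriang C) [t.IsGE T.obj₃ 0] :
    Mono (H0.map T.mor₁) := by
  obtain ⟨Y', p, q, hY'⟩ := distinguished_cocone_triangle ((t.truncLTι 0).app T.obj₁ ≫ T.mor₁)
  let O := someOctahedron rfl (t.triangleLTGE_distinguished 0 T.obj₁) hT hY'
  haveI : t.IsGE Y' 0 := t.isGE₂ _ O.mem 0 (inferInstance : t.IsGE ((t.truncGE 0).obj T.obj₁) 0)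
    (inferInstance : t.IsGE T.obj₃ 0)
  haveI : t.IsLE ((t.truncLT 0).obj T.obj₁) (-1) := t.isLE_truncLT_obj T.obj₁ 0 (-1)
  haveI : IsIso ((t.truncGE 0).map p) := t.isIso₂_truncGE_map_of_isLE _ hY' (-1) 0 (by omega)
    (inferInstance : t.IsLE ((t.truncLT 0).obj T.obj₁) (-1))
  haveI : IsIso ((t.truncGE 0).map ((t.truncGEπ 0).app T.obj₁)) :=
    t.isIso₂_truncGE_map_of_isLE _ (t.triangleLTGE_distinguished 0 T.obj₁) (-1) 0 (by omega)
      (inferInstance : t.IsLE ((t.truncLT 0).obj T.obj₁) (-1))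
  haveI h1 : IsIso (H0.map ((t.truncGEπ 0).app T.obj₁)) := isIso_of_truncGE t H0 e _
  haveI h2 : IsIso (H0.map p) := isIso_of_truncGE t H0 e p
  haveI : t.IsGE (Triangle.mk O.m₁ O.m₃ (T.mor₃ ≫ ((t.truncGEπ 0).app T.obj₁)⟦(1 : ℤ)⟧')).obj₁ 0 :=
    (inferInstance : t.IsGE ((t.truncGE 0).obj T.obj₁) 0)
  haveI : t.IsGE (Triangle.mk O.m₁ O.m₃ (T.mor₃ ≫ ((t.truncGEπ 0).app T.obj₁)⟦(1 : ℤ)⟧')).obj₂ 0 :=
    (inferInstance : t.IsGE Y' 0)
  haveI : t.IsGE (Triangle.mk O.m₁ O.m₃ (T.mor₃ ≫ ((t.truncGEπ 0).app T.obj₁)⟦(1 : ℤ)⟧')).obj₃ 0 :=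
    (inferInstance : t.IsGE T.obj₃ 0)
  haveI hm : Mono (H0.map O.m₁) := (of_ge t H0 e _ O.mem).1
  have hc : H0.map T.mor₁ ≫ H0.map p = H0.map ((t.truncGEπ 0).app T.obj₁) ≫ H0.map O.m₁ := by
    rw [← H0.map_comp, ← H0.map_comp]
    exact congrArg H0.map O.comm₁.symm
  exact mono_of_mono_fac (h := H0.map ((t.truncGEπ 0).app T.obj₁) ≫ H0.map O.m₁) hc

theorem of_le₁ [H0.Additive] (T : Triangle C) (hT : T ∈ distTriang C) [t.IsLE T.obj₁ 0] :
    Epi (H0.map T.mor₂) ∧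
      (ShortComplex.mk (H0.map T.mor₁) (H0.map T.mor₂)
        (by rw [← H0.map_comp, comp_distTriang_mor_zero₁₂ _ hT, H0.map_zero])).Exact := by
  have hTZ := t.triangleLEGE_distinguished 0 1 (by omega) T.obj₃
  obtain ⟨Y', v, w, hY'⟩ := distinguished_cocone_triangle₁ (T.mor₂ ≫ (t.truncGEπ 1).app T.obj₃)
  let O := someOctahedron' rfl hT hTZ hY'
  haveI : t.IsLE Y' 0 := t.isLE₂ _ O.mem 0 (inferInstance : t.IsLE T.obj₁ 0)
    (inferInstance : t.IsLE ((t.truncLE 0).obj T.obj₃) 0)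
  haveI : IsIso ((t.truncLE 0).map v) := t.isIso₁_truncLE_map_of_isGE _ hY' 0 1 (by omega)
    (inferInstance : t.IsGE ((t.truncGE 1).obj T.obj₃) 1)
  haveI h1 : IsIso (H0.map ((t.truncLEι 0).app T.obj₃)) := isIso_of_truncLE t H0 e _
  haveI h2 : IsIso (H0.map v) := isIso_of_truncLE t H0 e v
  let T' := Triangle.mk O.m₁ O.m₃ ((t.truncLEι 0).app T.obj₃ ≫ T.mor₃)
  haveI : t.IsLE T'.obj₁ 0 := (inferInstance : t.IsLE T.obj₁ 0)
  haveI : t.IsLE T'.obj₂ 0 := (inferInstance : t.IsLE Y' 0)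
  haveI : t.IsLE T'.obj₃ 0 := (inferInstance : t.IsLE ((t.truncLE 0).obj T.obj₃) 0)
  obtain ⟨hep, hex⟩ := of_le t H0 e T' O.mem
  have hc1 : H0.map O.m₁ ≫ H0.map v = H0.map T.mor₁ := by rw [← H0.map_comp, O.comm₁]
  have hc2 : H0.map O.m₃ ≫ H0.map ((t.truncLEι 0).app T.obj₃) = H0.map v ≫ H0.map T.mor₂ := by
    rw [← H0.map_comp, ← H0.map_comp]
    exact congrArg H0.map O.comm₄
  let S := ShortComplex.mk (H0.map T.mor₁) (H0.map T.mor₂)
    (by rw [← H0.map_comp, comp_distTriang_mor_zero₁₂ _ hT, H0.map_zero])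
  let S' := ShortComplex.mk (H0.map T'.mor₁) (H0.map T'.mor₂)
    (by rw [← H0.map_comp, comp_distTriang_mor_zero₁₂ T' O.mem, H0.map_zero])
  have φ : S' ≅ S := ShortComplex.isoMk (Iso.refl _) (@asIso _ _ _ _ (H0.map v) h2)
    (@asIso _ _ _ _ (H0.map ((t.truncLEι 0).app T.obj₃)) h1)
    (by exact (id_comp _).trans hc1.symm) (by exact hc2.symm)
  refine ⟨?_, (ShortComplex.exact_iff_of_iso φ).1 hex⟩
  haveI : Epi (H0.map O.m₃) := hep
  exact epi_of_epi_fac (h := H0.map O.m₃ ≫ H0.map ((t.truncLEι 0).app T.obj₃)) hc2.symm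

theorem isHomological : H0.IsHomological := by
  haveI := additive t H0 e
  refine Functor.IsHomological.mk fun T hT => ?_
  obtain ⟨U, f₂, f₃, hU⟩ := distinguished_cocone_triangle ((t.truncLEι 0).app T.obj₁ ≫ T.mor₁)
  let TU := Triangle.mk ((t.truncLEι 0).app T.obj₁ ≫ T.mor₁) f₂ f₃
  haveI : t.IsLE TU.obj₁ 0 := (inferInstance : t.IsLE ((t.truncLE 0).obj T.obj₁) 0)
  obtain ⟨hep, hex⟩ := of_le₁ t H0 e TU hU
  let O := someOctahedron rfl (t.triangleLEGE_distinguished 0 1 (by omega) T.obj₁) hT hU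
  have hR := rot_of_distTriang _ O.mem
  haveI : t.IsGE (((t.truncGE 1).obj T.obj₁)⟦(1 : ℤ)⟧) 0 := t.isGE_shift _ 1 1 0
  haveI : t.IsGE (Triangle.mk O.m₁ O.m₃ (T.mor₃ ≫ ((t.truncGEπ 1).app T.obj₁)⟦(1 : ℤ)⟧')).rotate.obj₃ 0 :=
    (inferInstance : t.IsGE (((t.truncGE 1).obj T.obj₁)⟦(1 : ℤ)⟧) 0)
  haveI hm : Mono (H0.map O.m₃) := of_ge₃ t H0 e _ hR
  haveI h1 : IsIso (H0.map ((t.truncLEι 0).app T.obj₁)) := isIso_of_truncLE t H0 e _
  let S' := ShortComplex.mk (H0.map TU.mor₁) (H0.map TU.mor₂)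
    (by rw [← H0.map_comp, comp_distTriang_mor_zero₁₂ TU hU, H0.map_zero])
  let S := (shortComplexOfDistTriangle T hT).map H0
  let φ : S' ⟶ S :=
    { τ₁ := H0.map ((t.truncLEι 0).app T.obj₁)
      τ₂ := 𝟙 _
      τ₃ := H0.map O.m₃
      comm₁₂ := by exact ((H0.map_comp _ _).symm.trans (comp_id _).symm)
      comm₂₃ := by exact (id_comp _).trans ((congrArg H0.map O.comm₃.symm).trans (H0.map_comp _ _)) }
  haveI : Epi φ.τ₁ := @IsIso.epi_of_iso _ _ _ _ _ h1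
  haveI : IsIso φ.τ₂ := IsIso.id _
  haveI : Mono φ.τ₃ := hm
  exact (ShortComplex.exact_iff_of_epi_of_isIso_of_mono φ).1 hex

end GrothLib.THeart
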