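import Groth.Agent.Lib.THeart.Homological
import Mathlib.CategoryTheory.Triangulated.Subcategory
import Mathlib.CategoryTheory.Localization.CalculusOfFractions

/-!
# t-structure on a Verdier quotient
-/

set_option autoImplicit false

universe v' u' v u

open CategoryTheory Limits Category Pretriangulated Triangulated

namespace GrothLib.THeart

variable {C : Type u} [Category.{v} C] [Preadditive C] [HasZeroObject C] [HasShift C ℤ]
  [∀ n : ℤ, (shiftFunctor C n).Additive] [Pretriangulated C] [IsTriangulated C] (t : TStructure C)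
  {H : Type u'} [Category.{v'} H] [Abelian H] [t.Heart H]
  {D : ObjectProperty C} [D.IsTriangulated] [D.IsClosedUnderIsomorphisms]

omit [D.IsTriangulated] [D.IsClosedUnderIsomorphisms] in
theorem prop_of_epi (h2 : ∀ (X Y Z : C) (f : X ⟶ Y) (g : Y ⟶ Z) (h : Z ⟶ X⟦(1 : ℤ)⟧),
      Triangle.mk f g h ∈ distTriang C → t.heart X → t.heart Y → t.heart Z → D Y → D X ∧ D Z)
    {A B : H} (f : A ⟶ B) [Epi f] (hA : D (t.ιHeart.obj A)) : D (t.ιHeart.obj B) := by
  obtain ⟨K, i, w, hT⟩ := exists_triangle_of_epi t f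
  exact (h2 _ _ _ _ _ _ hT (t.ιHeart_obj_mem K) (t.ιHeart_obj_mem A) (t.ιHeart_obj_mem B) hA).2

variable (H0 : C ⥤ H) (e : H0 ⋙ t.ιHeart ≅ t.truncGE 0 ⋙ t.truncLE 0)

include e in
omit [D.IsTriangulated] in
theorem prop_H0 (h1 : ∀ X : C, D X → ∀ n : ℤ, D ((t.truncGELE n n).obj X)) {X : C} (hX : D X) :
    D (t.ιHeart.obj (H0.obj X)) :=
  D.prop_of_iso ((t.truncGELEIsoLEGE 0 0).app X ≪≫ (e.app X).symm) (h1 X hX 0)

include e in
theorem isZero_H0 {Z : C} (m : ℤ) (h : (t.IsLE Z m ∧ m < 0) ∨ (t.IsGE Z m ∧ 0 < m)) : IsZero (H0.obj Z) := by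
  have hz : IsZero (t.ιHeart.obj (H0.obj Z)) := by
    refine IsZero.of_iso ?_ (e.app Z)
    rcases h with ⟨hle, hm⟩ | ⟨hge, hm⟩
    · haveI := hle
      haveI : t.IsLE Z (-1) := t.isLE_of_le Z m (-1) (by omega)
      exact (t.truncLE 0).map_isZero (t.isZero_truncGE_obj_of_isLE (-1) 0 (by omega) Z)
    · haveI := hge
      haveI : t.IsGE Z 1 := t.isGE_of_ge Z 1 m (by omega)
      haveI : t.IsGE Z 0 := t.isGE_of_ge Z 0 1 (by omega)
      refine IsZero.of_iso (t.isZero_truncLE_obj_of_isGE 0 1 (by omega) Z) ?_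
      exact (t.truncLE 0).mapIso (asIso ((t.truncGEπ 0).app Z)).symm
  rw [IsZero.iff_id_eq_zero]
  exact t.ιHeart.map_injective (hz.eq_of_src _ _)

include e in
theorem isIso_H0_shift {T : Triangle C} (hT : T ∈ distTriang C) (n : ℤ)
    (h1 : IsZero (H0.obj (T.obj₁⟦n⟧))) (h1' : IsZero (H0.obj (T.obj₁⟦n + 1⟧))) :
    Nonempty (H0.obj (T.obj₂⟦n⟧) ≅ H0.obj (T.obj₃⟦n⟧)) := by
  haveI := isHomological t H0 e
  have hS := H0.map_distinguished_exact _ (Triangle.shift_distinguished _ hT n)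
  have hmono : Mono (H0.map ((Triangle.shiftFunctor C n).obj T).mor₂) :=
    hS.mono_g (h1.eq_of_src _ _)
  have hS' := H0.map_distinguished_exact _ (rot_of_distTriang _ (Triangle.shift_distinguished _ hT n))
  have hepi : Epi (H0.map ((Triangle.shiftFunctor C n).obj T).mor₂) := by
    refine hS'.epi_f (IsZero.eq_of_tgt ?_ _ _)
    exact h1'.of_iso (H0.mapIso ((shiftFunctorAdd C n 1).app T.obj₁).symm)
  exact ⟨@asIso _ _ _ _ (H0.map ((Triangle.shiftFunctor C n).obj T).mor₂) (@isIso_of_mono_of_epi _ _ _ _ _ _ hmono hepi)⟩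

include e in
theorem prop_of_cohomology (hb : ∀ X : C, t.bounded X) (Z : C)
    (h : ∀ n : ℤ, D (t.ιHeart.obj (H0.obj (Z⟦n⟧)))) : D Z := by
  suffices hk : ∀ (k : ℕ) (Z : C) (a : ℤ), t.IsGE Z a → t.IsLE Z (a + k - 1) →
      (∀ n : ℤ, D (t.ιHeart.obj (H0.obj (Z⟦n⟧)))) → D Z by
    obtain ⟨⟨a, ha⟩, ⟨b, hb⟩⟩ := hb Z
    haveI := ha; haveI := hb
    exact hk (b - a + 1).toNat Z a ha (t.isLE_of_le Z b _ (by omega)) h
  intro k
  induction k with
  | zero =>
    intro Z a ha hb' _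
    haveI := ha; haveI := hb'
    exact D.prop_of_isZero (t.isZero Z (a + (0 : ℕ) - 1) a (by omega))
  | succ k ih =>
    intro Z a ha hb' hZ
    haveI := ha; haveI := hb'
    let T := (t.triangleLTGE (a + 1)).obj Z
    have hT : T ∈ distTriang C := t.triangleLTGE_distinguished (a + 1) Z
    haveI h3 : t.IsGE ((t.truncGE (a + 1)).obj Z) (a + 1) := inferInstance
    haveI h3' : t.IsLE ((t.truncGE (a + 1)).obj Z) (a + (k + 1 : ℕ) - 1) := inferInstance
    haveI h1 : t.IsGE ((t.truncLT (a + 1)).obj Z) a := inferInstance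
    haveI h1' : t.IsLE ((t.truncLT (a + 1)).obj Z) a := inferInstance
    haveI : IsTriangulated C := inferInstance
    have hcases : ∀ n : ℤ, n ≠ a → IsZero (H0.obj (((t.truncLT (a + 1)).obj Z)⟦n⟧)) := fun n hn => by
      refine isZero_H0 t H0 e (a - n) ?_
      rcases lt_or_gt_of_ne hn with h | h
      · exact .inr ⟨t.isGE_shift _ a n (a - n), by omega⟩
      · exact .inl ⟨t.isLE_shift _ a n (a - n), by omega⟩
    refine D.ext_of_isTriangulatedClosed₂ T hT ?_ ?_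
    · haveI : t.IsGE (((t.truncLT (a + 1)).obj Z)⟦a⟧) 0 := t.isGE_shift _ a a 0
      haveI : t.IsLE (((t.truncLT (a + 1)).obj Z)⟦a⟧) 0 := t.isLE_shift _ a a 0
      suffices hsuf : D (((t.truncLT (a + 1)).obj Z)⟦a⟧) from
        D.prop_of_iso ((shiftEquiv C a).unitIso.app ((t.truncLT (a + 1)).obj Z)).symm (D.le_shift (-a) _ hsuf)
      obtain ⟨eI⟩ := isIso_H0_shift t H0 e (inv_rot_of_distTriang _ hT) a
        (isZero_H0 t H0 e 2 (.inr ⟨by
          haveI : t.IsGE (((t.truncGE (a + 1)).obj Z)⟦(-1 : ℤ)⟧) (a + 2) := t.isGE_shift _ (a + 1) (-1) (a + 2)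
          exact t.isGE_shift (((t.truncGE (a + 1)).obj Z)⟦(-1 : ℤ)⟧) (a + 2) a 2, by omega⟩))
        (isZero_H0 t H0 e 1 (.inr ⟨by
          haveI : t.IsGE (((t.truncGE (a + 1)).obj Z)⟦(-1 : ℤ)⟧) (a + 2) := t.isGE_shift _ (a + 1) (-1) (a + 2)
          exact t.isGE_shift (((t.truncGE (a + 1)).obj Z)⟦(-1 : ℤ)⟧) (a + 2) (a + 1) 1, by omega⟩))
      let W := ((t.truncLT (a + 1)).obj Z)⟦a⟧
      have eW : t.ιHeart.obj (H0.obj W) ≅ W := e.app W ≪≫ (t.truncLE 0).mapIso (asIso ((t.truncGEπ 0).app W)).symm ≪≫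
        asIso ((t.truncLEι 0).app W)
      refine D.prop_of_iso ((t.ιHeart.mapIso eI).symm ≪≫ eW) (hZ a)
    · refine ih ((t.truncGE (a + 1)).obj Z) (a + 1) h3 (t.isLE_of_le _ (a + (k + 1 : ℕ) - 1) _ (by push_cast; omega))
        fun n => ?_
      by_cases hn : a + 1 - n ≤ 0
      · obtain ⟨e'⟩ := isIso_H0_shift t H0 e hT n (hcases n (by omega)) (hcases (n + 1) (by omega))
        exact D.prop_of_iso (t.ιHeart.mapIso e') (hZ n)
      · exact D.prop_of_isZero (t.ιHeart.map_isZero (isZero_H0 t H0 e (a + 1 - n)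
          (.inr ⟨t.isGE_shift _ (a + 1) n (a + 1 - n), by omega⟩)))

end GrothLib.THeart
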